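import Cfsg.Agent.Omega.ML.Ex.LA
import Cfsg.Agent.Omega.ML.Ex.RowASix

/-!
# (F1'), the K-route: the piece `a6` (helper848)
-/

set_option autoImplicit false

namespace Cfsg.Agent.Omega.FOne.Glue.ASix

open Cfsg

universe u v w

/-- **The row `A₆` with the W-part.** -/
theorem a6 : Cfsg.Agent.Omega.ML.Ex.DeadXW.{u, v, w} fun S _ => Nonempty (S ≃* alternatingGroup (Fin 6)) :=
  fun _ _ _ _ _ _ _ _ _ _ _ _ _ _ _ h hW hK => Cfsg.Agent.Omega.ML.Ex.RowASix.alt6_W h hW hK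

end Cfsg.Agent.Omega.FOne.Glue.ASix
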