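import Cfsg.Agent.Omega.FOne.Glue.Fin
import Cfsg.Agent.Omega.ML.Ex.Lie2.Fin

/-!
# (F1'), the K-route: closed (helper854)

`endPieces : EndPieces`, `ptv : PTv`, `fOneP K : NO3S.TwoOne.FOneP K`: no hypothesis is left.
-/

set_option autoImplicit false

namespace Cfsg.Agent.Omega.FOne.Glue

open Cfsg Cfsg.Agent.Omega.FOne.NOv
open Cfsg.Agent.Omega.ML.Ex (EndPieces DeadXL)

universe u v w

/-- **`EndPieces`** -/
theorem endPieces : EndPieces.{u, v, w} := endPieces_of ML.Ex.Lie2.lie2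

/-- **`PTv`** -/
theorem ptv : PTv.{u} := ptv_of_lie2 ML.Ex.Lie2.lie2

/-- **(F1) for the leaf `TwoOne`** -/
theorem fOneP (K : Frame.Cls.{u}) : NO3S.TwoOne.FOneP K := fOneP_of_lie2 ML.Ex.Lie2.lie2 K

end Cfsg.Agent.Omega.FOne.Glue
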