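import Cfsg.Agent.Omega.FOne.NOv.Plug
import Cfsg.Agent.Omega.ML.Ex.Def

/-!
# (F1'), the K-route: the faithful section (helper854)

`Fs X y θ T B` : the output of THEOREM A + the REDUCTION (helper297 #20655) in additive form: `X ≤ GL(W)` fixes `y`,
is faithful on `W / y`, `O₂(X) = 1`, `T` is a Sylow 2-subgroup of `X` with `C_W(T) = {0, y}` which swaps `θ` and `θ + y`,
`W / y = ⟨θ^X⟩`, `B ≤ T` is an exact atom of `W / y` with `|B| ≥ 4`, and `B ≤ O₂(R)` for all `T ≤ R < X`.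

`Ps T B p y θ` : the same in multiplicative form, `p : W → M` with kernel `{1, y}`, with (nmax) : `T` is in at least two
maximal subgroups of `X`.
-/

set_option autoImplicit false
set_option linter.unusedSectionVars false

namespace Cfsg.Agent.Omega.FOne.Glue

open Subgroup Cfsg Cfsg.Agent.ZN
open Cfsg.Agent.Omega.FOne.Tvw (Base z2 addself)
open Cfsg.Agent.Omega.FOne.NOv
open Cfsg.Agent.ClassTwoFusion.Quad

universe u v w

/-- **The faithful section**, additive form. -/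
structure Fs {W : Type*} [AddCommGroup W] [Module (ZMod 2) W] (X : Subgroup (W ≃ₗ[ZMod 2] W)) (y θ : W)
    (T B : Subgroup (W ≃ₗ[ZMod 2] W)) : Prop where
  known : IsKGroupWith IsKnownSimple' X
  base : Base X y
  TX : T ≤ X
  two : IsPGroup 2 T
  syl : ¬ 2 ∣ T.relIndex X
  fixT : ∀ w, (∀ t ∈ T, t w = w) → w = 0 ∨ w = y
  θ0 : θ ≠ 0
  θy : θ ≠ y
  Tθ : ∀ t ∈ T, t θ = θ ∨ t θ = θ + y
  swap : ∃ t ∈ T, t θ = θ + y
  gen : ∀ U : Submodule (ZMod 2) W, y ∈ U → (∀ x ∈ X, x θ ∈ U) → U = ⊤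
  BT : B ≤ T
  sq : ∀ b ∈ B, b * b = 1
  quadM : ∀ a ∈ B, ∀ b ∈ B, ∀ w, b (a w + w) = a w + w ∨ b (a w + w) = a w + w + y
  atom : MAtom y B
  four : 4 ≤ Nat.card B
  low : ∀ R : Subgroup (W ≃ₗ[ZMod 2] W), T ≤ R → R ≤ X → R ≠ X → B ≤ o2 R

/-- **(LA)**, additive form: every `M`-atom of order `≥ 4` in `O₂(Z)`, `Z` the stabiliser of `θ` modulo `y`, is low -/
def FsLa {W : Type*} [AddCommGroup W] [Module (ZMod 2) W] (X : Subgroup (W ≃ₗ[ZMod 2] W)) (y θ : W)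
    (T : Subgroup (W ≃ₗ[ZMod 2] W)) : Prop :=
  ∀ Z : Subgroup (W ≃ₗ[ZMod 2] W), (∀ x, x ∈ Z ↔ x ∈ X ∧ (x θ = θ ∨ x θ = θ + y)) →
    ∀ B₁ : Subgroup (W ≃ₗ[ZMod 2] W), B₁ ≤ o2 Z → (∀ b ∈ B₁, b * b = 1) →
    (∀ a ∈ B₁, ∀ b ∈ B₁, ∀ w, b (a w + w) = a w + w ∨ b (a w + w) = a w + w + y) → MAtom y B₁ →
    4 ≤ Nat.card B₁ → ∀ R : Subgroup (W ≃ₗ[ZMod 2] W), T ≤ R → R ≤ X → R ≠ X → B₁ ≤ o2 R

/-- **The faithful section**, multiplicative form. -/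
structure Ps {X : Type u} [Group X] {M : Type v} [CommGroup M] [MulDistribMulAction X M] {W : Type w} [CommGroup W]
    [MulDistribMulAction X W] (T B : Subgroup X) (p : W →* M) (y θ : W) : Prop where
  known : IsKGroupWith IsKnownSimple' X
  sq : ∀ w : W, w * w = 1
  eqv : ∀ (x : X) (w : W), p (x • w) = x • p w
  surj : Function.Surjective p
  ker : ∀ w : W, p w = 1 ↔ w = 1 ∨ w = y
  y1 : y ≠ 1
  fixy : ∀ x : X, x • y = y
  faith : ∀ x : X, (∀ m : M, x • m = m) → x = 1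
  core : ∀ N : Subgroup X, N.Normal → IsPGroup 2 N → N = ⊥
  two : IsPGroup 2 T
  syl : ¬ 2 ∣ T.index
  fixT : ∀ w : W, (∀ t ∈ T, t • w = w) → w = 1 ∨ w = y
  Tθ : ∀ t ∈ T, t • p θ = p θ
  θ1 : p θ ≠ 1
  gen : ∀ U : Subgroup M, (∀ x : X, ∀ u ∈ U, x • u ∈ U) → p θ ∈ U → U = ⊤
  BT : B ≤ T
  el : ∀ b ∈ B, b * b = 1
  quad : ∀ a ∈ B, ∀ b ∈ B, ∀ m : M, b • ((a • m) * m⁻¹) = (a • m) * m⁻¹
  four : 4 ≤ Nat.card B
  exact : (cv M (B : Set X)).index = Nat.card B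
  atom : ∀ C : Subgroup X, C ≤ B → C ≠ ⊥ → C ≠ B → Nat.card C < (cv M (C : Set X)).index
  low : ∀ R : Subgroup X, T ≤ R → R ≠ ⊤ → B ≤ o2 R
  nmax : ¬ ∃ N : Subgroup X, N ≠ ⊤ ∧ ∀ R : Subgroup X, T ≤ R → R ≠ ⊤ → R ≤ N

section conv

variable {W : Type u} [AddCommGroup W] [Module (ZMod 2) W]

/-- `H` acts on `W`, written multiplicatively -/
@[reducible] def wact (H : Subgroup (W ≃ₗ[ZMod 2] W)) : MulDistribMulAction H (Multiplicative W) where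
  smul h v := Multiplicative.ofAdd ((h : W ≃ₗ[ZMod 2] W) (Multiplicative.toAdd v))
  one_smul _ := rfl
  mul_smul _ _ _ := rfl
  smul_mul h v w := by
    change Multiplicative.ofAdd ((h : W ≃ₗ[ZMod 2] W) (Multiplicative.toAdd v + Multiplicative.toAdd w)) = _
    rw [map_add]; rfl
  smul_one h := by
    change Multiplicative.ofAdd ((h : W ≃ₗ[ZMod 2] W) 0) = 1
    rw [map_zero]; rfl

/-- the projection `W → W / y` -/
def qp (y : W) : Multiplicative W →* QM y where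
  toFun w := qm y (Multiplicative.toAdd w)
  map_one' := rfl
  map_mul' _ _ := rfl

end conv

end Cfsg.Agent.Omega.FOne.Glue
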