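import Cfsg.Agent.Omega.FOne.Glue.Fin
import Cfsg.Agent.Omega.ML.Ex.Lie2.Fin

/-!
# (F1'), the K-route: everything from 221's `FiveI` only (helper854)
-/

set_option autoImplicit false

namespace Cfsg.Agent.Omega.FOne.Glue

open Cfsg Cfsg.Agent.Omega.FOne.NOv
open Cfsg.Agent.Omega.ML.Ex (EndPieces DeadXL)

universe u v w

/-- **`EndPieces` from `FiveI`** -/
theorem endPieces_of_five (h : ML.Ex.Lie2.FiveI.{u, v}) : EndPieces.{u, v, w} :=
  endPieces_of (ML.Ex.Lie2.lie2_of_five h)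

/-- **`PTv` from `FiveI`** -/
theorem ptv_of_five (h : ML.Ex.Lie2.FiveI.{u, u}) : PTv.{u} := ptv_of_lie2 (ML.Ex.Lie2.lie2_of_five h)

/-- **(F1) for the leaf `TwoOne` from `FiveI`** -/
theorem fOneP_of_five (h : ML.Ex.Lie2.FiveI.{u, u}) (K : Frame.Cls.{u}) : NO3S.TwoOne.FOneP K :=
  fOneP_of_lie2 (ML.Ex.Lie2.lie2_of_five h) K

end Cfsg.Agent.Omega.FOne.Glue
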