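import Cfsg.Agent.Omega.FOne.Glue.FsPs
import Cfsg.Agent.Omega.FOne.NOv.Tr

/-!
# (F1'), the K-route: `AtomTwo`, `PTv`, `FOneP` from the pieces (helper854)

* `ToFs` : THEOREM A + the REDUCTION (helper297 #20655; helper396);
* `ML.Ex.EndPieces` : RED with the W-part and (LA), the K-list, the rows (file `ML/Ex/LA.lean`);
* `atomTwo_of`, `ptv_of`, `fOneP_of`.
-/

set_option autoImplicit false
set_option linter.unusedSectionVars false

namespace Cfsg.Agent.Omega.FOne.Glue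

open Subgroup Cfsg
open Cfsg.Agent.Omega.FOne.NOv
open Cfsg.Agent.Omega.ML.Ex (EndPieces PsR)

universe u v w

/-- (nmax) -/
def FsNmax : Prop :=
  ∀ (W : Type u) [AddCommGroup W] [Module (ZMod 2) W] [Finite W] (X : Subgroup (W ≃ₗ[ZMod 2] W)) (y θ : W)
    (T B : Subgroup (W ≃ₗ[ZMod 2] W)), Fs X y θ T B →
    ¬ ∃ N : Subgroup (W ≃ₗ[ZMod 2] W), N ≤ X ∧ N ≠ X ∧
      ∀ R : Subgroup (W ≃ₗ[ZMod 2] W), T ≤ R → R ≤ X → R ≠ X → R ≤ N

/-- the rows with the W-part -/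
abbrev DeadXW (𝒮 : ∀ (S : Type u) [Group S], Prop) : Prop := ML.Ex.DeadXW.{u, v, w} 𝒮

/-- **THEOREM A + REDUCTION** : a counterexample to `AtomTwo` gives a faithful section with (LA) -/
def ToFs : Prop :=
  ∀ (W : Type u) [AddCommGroup W] [Module (ZMod 2) W] [Finite W] (H : Subgroup (W ≃ₗ[ZMod 2] W)) (y : W)
    (T N A B : Subgroup (W ≃ₗ[ZMod 2] W)) (L : Submodule (ZMod 2) W), Sw H y T N L → Ax y N A → B ≤ A →
    MAtom y B → Nat.card B ≠ 2 →
    ∃ (W' : Type u) (_ : AddCommGroup W') (_ : Module (ZMod 2) W') (_ : Finite W')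
      (X : Subgroup (W' ≃ₗ[ZMod 2] W')) (y' θ : W') (T' B' : Subgroup (W' ≃ₗ[ZMod 2] W')),
      Fs X y' θ T' B' ∧ FsLa X y' θ T'

/-- `PsR` does not occur -/
def DeadR : Prop :=
  ∀ (X : Type u) [Group X] [Finite X] (M : Type u) [CommGroup M] [Finite M] [MulDistribMulAction X M]
    (W : Type u) [CommGroup W] [Finite W] [MulDistribMulAction X W] (T B : Subgroup X) (p : W →* M) (m : M),
    ¬ PsR T B p m

theorem deadR_of (E : EndPieces.{u, u, u}) : DeadR.{u} := fun X _ _ M _ _ _ W _ _ _ T B p m h => E.false h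

/-- **`AtomTwo`** -/
theorem atomTwo_of (hT : ToFs.{u}) (hD : DeadR.{u}) (hML : ML.Final.MLK.{u, u}) : AtomTwo.{u} := by
  intro W _ _ _ H y T N A B L S X hBA hB
  by_contra hcon
  obtain ⟨W', _, _, _, X', y', θ, T', B', F, hla⟩ := hT W H y T N A B L S X hBA hB hcon
  have hfin : Finite (W' ≃ₗ[ZMod 2] W') := DFunLike.finite _
  have hfQ : Finite (QM y') := Finite.of_surjective (qm y') (qm_surj y')
  let _ := wact X'
  let _ := qact X' y' F.base.fix
  exact hD X' (QM y') (Multiplicative W') _ _ _ _ (F.psR hML hla)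

/-- **`PTv`** -/
theorem ptv_of (hT : ToFs.{u}) (hD : DeadR.{u}) (hML : ML.Final.MLK.{u, u}) : PTv.{u} :=
  NOv.ptv_of (atomTwo_of hT hD hML) NOv.trSwap

/-- **(F1) for the leaf `TwoOne`** -/
theorem fOneP_of (hT : ToFs.{u}) (hD : DeadR.{u}) (hML : ML.Final.MLK.{u, u}) (K : Frame.Cls.{u}) :
    NO3S.TwoOne.FOneP K :=
  NOv.fOneP_of K hML (ptv_of hT hD hML)

end Cfsg.Agent.Omega.FOne.Glue
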