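import Cfsg.Agent.Omega.FOne.Glue.Main
import Cfsg.Agent.Omega.FOne.ThmA.Red

/-!
# (F1'), the K-route: `ToFs` from THEOREM A (helper854; the reduction is helper396's)
-/

set_option autoImplicit false

namespace Cfsg.Agent.Omega.FOne.Glue

open Subgroup Cfsg
open Cfsg.Agent.ZN (o2)
open Cfsg.Agent.Omega.FOne.NOv

universe u

theorem fsLa_of {W : Type u} [AddCommGroup W] [Module (ZMod 2) W] [Finite W] {X : Subgroup (W ≃ₗ[ZMod 2] W)} {y θ : W}
    {T B : Subgroup (W ≃ₗ[ZMod 2] W)} (F : Fs X y θ T B) (la : ThmA.LA X y θ T) : FsLa X y θ T := by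
  intro Z hZ B₁ hB hsq hq hat h4 R hTR hRX hR
  have e : Z = ThmA.Fq X y {θ} := by
    ext x
    rw [hZ]
    constructor
    · rintro ⟨hx, h⟩
      refine ⟨hx, F.base.fix x hx, fun v hv => ?_⟩
      rw [Set.mem_singleton_iff.mp hv]; exact h
    · rintro ⟨hx, -, h⟩
      exact ⟨hx, h θ rfl⟩
  rw [e] at hB
  exact (la B₁ ⟨hB, hsq, hq, hat, h4⟩ R hTR hRX hR).1

/-- **`ToFs` from THEOREM A** -/
theorem toFs_of (hML : ML.Final.MLK.{u, u}) (hA : ThmA.ThA.{u}) : ToFs.{u} := by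
  intro W _ _ _ H y T N A B L S X hBA hB h2
  obtain ⟨W', i1, i2, i3, X', y', θ', T', B', F, -, la⟩ := ThmA.reduction hML hA S X hBA hB h2
  exact ⟨W', i1, i2, i3, X', y', θ', T', B', F, fsLa_of F la⟩

/-- **`PTv`** from THEOREM A and `DeadR` -/
theorem ptv_of' (hA : ThmA.ThA.{u}) (hD : DeadR.{u}) (hML : ML.Final.MLK.{u, u}) : PTv.{u} :=
  ptv_of (toFs_of hML hA) hD hML

/-- **(F1) for the leaf `TwoOne`** from THEOREM A and `DeadR` -/
theorem fOneP_of' (hA : ThmA.ThA.{u}) (hD : DeadR.{u}) (hML : ML.Final.MLK.{u, u}) (K : Frame.Cls.{u}) :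
    NO3S.TwoOne.FOneP K :=
  fOneP_of (toFs_of hML hA) hD hML K

end Cfsg.Agent.Omega.FOne.Glue
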