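import Cfsg.Agent.Omega.FOne.Glue.Def
import Cfsg.Agent.Omega.ML.Ex.RedW

/-!
# The input of THEOREM RED from `Ps` (helper844)

* `Ps.odd` : no normal subgroup of odd order;  `Ps.mn`, `Ps.wd`.
-/

set_option autoImplicit false
set_option linter.unusedSectionVars false

namespace Cfsg.Agent.Omega.FOne.Glue

open Subgroup Cfsg Cfsg.Agent.ZN
open Cfsg.Agent.ClassTwoFusion.Quad Cfsg.Agent.Omega.ML.MinFrame
open Cfsg.Agent.Omega.ML.Ex.Red (Mn CmpM Wd)

universe u v w

section

variable {X : Type u} [Group X] {M : Type v} [CommGroup M] [MulDistribMulAction X M] {W : Type w} [CommGroup W]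
    [MulDistribMulAction X W] {T B : Subgroup X} {p : W →* M} {y θ : W}

/-- no normal subgroup of odd order -/
theorem Ps.odd [Finite X] [Finite W] (P : Ps T B p y θ) (N : Subgroup X) (hN : N.Normal) (ho : Odd (Nat.card N)) :
    N = ⊥ := by
  have h1 : T ⊓ N = ⊥ := by
    rw [eq_bot_iff]
    rintro x ⟨hxT, hxN⟩
    obtain ⟨k, hk⟩ := P.two ⟨x, hxT⟩
    have h2 : x ^ (2 ^ k) = 1 := congrArg Subtype.val hk
    have h3 : x ^ Nat.card N = 1 := congrArg Subtype.val (pow_card_eq_one' (x := (⟨x, hxN⟩ : N)))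
    exact mem_of_pow_mem (m := 2 ^ k) (n := Nat.card N) (Nat.Coprime.pow_left _ (Nat.coprime_two_left.2 ho))
      (mem_bot.2 h2) (mem_bot.2 h3)
  rw [eq_bot_iff]
  intro x hx
  refine mem_bot.2 (P.faith x fun m => ?_)
  obtain ⟨w, rfl⟩ := P.surj m
  rw [← P.eqv]
  congr 1
  refine Cfsg.Agent.Omega.ML.Ex.odd_fix_mul P.sq P.two (fun t _ k hk => hN.conj_mem k hk t) ?_ ?_ ?_ x hx
  · rw [h1, relIndex_bot_left]
    exact ho.not_two_dvd_nat
  · intro v hv k _
    rcases P.fixT v hv with rfl | rfl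
    · rw [smul_one]
    · exact P.fixy k
  · intro t ht
    rw [h1, mem_bot] at ht
    rw [ht, one_smul]

/-- the input of RED -/
theorem Ps.mn [Finite X] [Finite W] (P : Ps T B p y θ) : Mn T B (p θ) where
  sq := fun m => by
    obtain ⟨w, rfl⟩ := P.surj m
    rw [← map_mul, P.sq, map_one]
  faith := P.faith
  gen := P.gen _ (fun x _ hu => smul_mem_orb (mem_top x) hu) (mem_orb_self _ _)
  fixT := P.Tθ
  odd := P.odd
  two := P.two
  syl := P.syl
  el := P.el
  four := P.four
  exact := P.exact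
  atom := P.atom
  low := P.low
  nmax := P.nmax

theorem Ps.wd (P : Ps T B p y θ) : Wd T p where
  sq := P.sq
  eqv := P.eqv
  surj := P.surj
  ker := fun w hw x => by
    rcases (P.ker w).1 hw with rfl | rfl
    · rw [smul_one]
    · exact P.fixy x
  fixT := fun w hw => (P.ker w).2 (P.fixT w hw)

end

end Cfsg.Agent.Omega.FOne.Glue
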